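import Cfsg.Agent.Lib.O73Mult.Edge0
import Cfsg.Agent.Lib.O73Mult.Edge1

/-!
The triple cover of `Ω₇(3)`.
-/

set_option autoImplicit false
set_option maxRecDepth 20000

namespace Cfsg.Agent.O73Mult

open Cfsg.Agent.Chev (Tab allLt allLt_iff)
open Cfsg.Agent.MaxCl Cfsg.Agent.MaxCl.Orth
open Cfsg.Agent.Schur

theorem actOK_true : ∀ k : Fin 2, actOK k = true := fun k => by
  fin_cases k
  · exact actOK0
  · exact actOK1

theorem edges_true : ∀ k : Fin 2, edgesOK k.val = true := fun k => by
  fin_cases k
  · exact edges0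
  · exact edges1

/-- The image of a point. -/
noncomputable def permFun (k : Fin 2) (i : Unit) (x : data.P i) : data.P i := Fin.ofNat 378 (pw k.val x.val / 4)

/-- The translation at a point. -/
noncomputable def tlab (k : Fin 2) (i : Unit) (x : data.P i) : ZMod 3 := ((pw k.val x.val % 4 : ℕ) : ZMod 3)

theorem pw_lt (k : Fin 2) {x : ℕ} (hx : x < 378) : pw k.val x / 4 < 378 := by
  have h := allLt_iff.1 (actOK_true k) _ hx
  rw [Bool.and_eq_true, Nat.blt_eq] at h
  exact h.1

theorem permFun_val (k : Fin 2) (i : Unit) (x : data.P i) : (permFun k i x).val = pw k.val x.val / 4 :=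
  Nat.mod_eq_of_lt (pw_lt k x.2)

theorem act_facts (k : Fin 2) (i : Unit) (x : data.P i) : data.act i (gen k) x (permFun k i x) := by
  have h := allLt_iff.1 (actOK_true k) _ x.2
  rw [Bool.and_eq_true, Bool.or_eq_true, decide_eq_true_eq, decide_eq_true_eq] at h
  show _ ∨ _
  rw [act_gen, permFun_val]
  exact h.2

theorem edge_facts (k : Fin 2) (i : Unit) (x : data.P i) :
    ∀ e ∈ data.nb i x, (permFun k i e.1, e.2 + tlab k i e.1 - tlab k i x) ∈ data.nb i (permFun k i x) := by
  intro e he
  obtain ⟨j, hj, rfl⟩ := List.mem_map.1 he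
  have h := allLt_iff.1 (allLt_iff.1 (edges_true k) _ x.2) j (List.mem_range.1 hj)
  simp only [edgeOK, Bool.and_eq_true, Nat.blt_eq, Nat.beq_eq] at h
  obtain ⟨hs, he⟩ := h
  have hy : slot x.val j / 4 < 378 := (graph_facts _ x.2).2.1 j (List.mem_range.1 hj)
  have hyv : (Fin.ofNat 378 (slot x.val j / 4)).val = slot x.val j / 4 := Nat.mod_eq_of_lt hy
  refine List.mem_map.2 ⟨_, List.mem_range.2 hs, ?_⟩
  rw [permFun_val]
  simp only [permFun, tlab, hyv, he]
  refine Prod.ext ?_ ?_
  · show Fin.ofNat 378 _ = Fin.ofNat 378 _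
    congr 1
    omega
  · show ((_ % 4 : ℕ) : ZMod 3) = _
    generalize slot x.val j % 4 = a
    generalize pw k.val (slot x.val j / 4) % 4 = b
    generalize pw k.val (slot x.val j / 4) / 4 = q
    generalize pw k.val x.val % 4 = c
    rw [show (q * 4 + (a + b + 2 * c) % 3) % 4 = (a + b + 2 * c) % 3 by omega, ZMod.natCast_mod, Nat.cast_add,
      Nat.cast_add, Nat.cast_mul, show ((2 : ℕ) : ZMod 3) = -1 from rfl]
    ring

theorem act_inj (g : GL I K) {x y : I → K} (h : act g x = act g y) : x = y := by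
  have := congrArg (act g⁻¹) h
  rwa [act_inv_act, act_inv_act] at this

theorem permFun_injective (k : Fin 2) (i : Unit) : Function.Injective (permFun k i) := by
  intro x y e
  have hx := act_facts k i x
  have hy := act_facts k i y
  rw [← e] at hy
  refine (pt_inj (i := i) (x := x) (y := y) ?_).symm
  rcases hx with h1 | h1 <;> rcases hy with h2 | h2
  · exact Or.inl (act_inj (gen k).1 (h1.trans h2.symm))
  · exact Or.inr (act_inj (gen k).1 (by rw [map_neg, h2, neg_neg, h1]))
  · exact Or.inr (act_inj (gen k).1 (by rw [map_neg, h2, h1]))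
  · exact Or.inl (act_inj (gen k).1 (h1.trans h2.symm))

/-- The permutation of the points. -/
noncomputable def perm (k : Fin 2) (i : Unit) : Equiv.Perm (data.P i) :=
  Equiv.ofBijective _ (Finite.injective_iff_bijective.1 (permFun_injective k i))

/-- A lifted generator. -/
noncomputable def lel (k : Fin 2) : G × ∀ i, Equiv.Perm (data.P i × ZMod 3) :=
  (gen k, fun i => Labelled.lift (perm k i) (tlab k i))

theorem lel_mem (k : Fin 2) : lel k ∈ Labelled.M good :=
  Labelled.lift_mem good (perm k) (tlab k) (act_facts k) (edge_facts k)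

/-- A lifted word. -/
noncomputable def lW (l : List (Fin 2)) : G × ∀ i, Equiv.Perm (data.P i × ZMod 3) := (l.map lel).prod

theorem lW_mem (l : List (Fin 2)) : lW l ∈ Labelled.M good :=
  list_prod_mem fun x hx => by
    obtain ⟨k, -, rfl⟩ := List.mem_map.1 hx
    exact lel_mem k

theorem lW_fst (l : List (Fin 2)) : (lW l).1 = (l.map gen).prod := by
  induction l with
  | nil => rfl
  | cons k l ih => rw [lW, List.map_cons, List.prod_cons, Prod.fst_mul, List.map_cons, List.prod_cons, ← ih]; rfl

/-- The image of the base point under a word. -/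
noncomputable def run : List (Fin 2) → ℕ × ℕ
  | [] => (0, 0)
  | k :: l => (pw k.val (run l).1 / 4, (run l).2 + pw k.val (run l).1 % 4)

theorem run_lt : ∀ l : List (Fin 2), (run l).1 < 378
  | [] => by simp [run]
  | k :: l => pw_lt k (run_lt l)

theorem lW_base : ∀ l : List (Fin 2), (lW l).2 () (⟨0, by norm_num⟩, 0) =
    (⟨(run l).1, run_lt l⟩, (((run l).2 : ℕ) : ZMod 3))
  | [] => rfl
  | k :: l => by
    show (Labelled.lift (perm k ()) (tlab k ())) ((lW l).2 () _) = _
    rw [lW_base l, Labelled.lift_apply]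
    refine Prod.ext (Fin.ext ?_) ?_
    · exact permFun_val k () ⟨(run l).1, run_lt l⟩
    · simp only [tlab, run, Nat.cast_add]

/-- The two orders of the commuting elements. -/
noncomputable def commOK : Bool :=
  decide (∀ i : I, wordV (0 :: wordB) (Pi.single i 1) = wordV (wordB ++ [0]) (Pi.single i 1)) &&
    decide (((run (0 :: wordB)).2 : ZMod 3) = ((run (wordB ++ [0])).2 : ZMod 3) + 1)

theorem commOK_true : commOK = true := by decide +kernel

theorem exists_comm : ∃ a ∈ Labelled.M good, ∃ b ∈ Labelled.M good,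
    a * b = ((1 : G), Labelled.transl data 1) * (b * a) := by
  have h := commOK_true
  rw [commOK, Bool.and_eq_true, decide_eq_true_eq, decide_eq_true_eq] at h
  obtain ⟨hm, hc⟩ := h
  refine ⟨lW [0], lW_mem _, lW wordB, lW_mem _, ?_⟩
  have eab : lW [0] * lW wordB = lW (0 :: wordB) := by
    simp [lW]
  have eba : lW wordB * lW [0] = lW (wordB ++ [0]) := by
    simp [lW]
  rw [eab, eba]
  have hfst : (lW (0 :: wordB)).1 = (lW (wordB ++ [0])).1 := by
    refine Subtype.ext (gl_ext_basis fun i => ?_)
    rw [lW_fst, lW_fst, act_word, act_word]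
    exact hm i
  set x := lW (0 :: wordB) * (lW (wordB ++ [0]))⁻¹ with hxdef
  have hx : x ∈ Labelled.M good := mul_mem (lW_mem _) (inv_mem (lW_mem _))
  have hx1 : x.1 = 1 := by
    show (lW (0 :: wordB)).1 * ((lW (wordB ++ [0])).1)⁻¹ = 1
    rw [hfst, mul_inv_cancel]
  obtain ⟨c, hc'⟩ := Labelled.eq_transl good hx (by rw [hx1]; exact one_mem _)
  rw [hx1] at hc'
  have e : lW (0 :: wordB) = ((1 : G), Labelled.transl data c) * lW (wordB ++ [0]) := by
    rw [← hc', hxdef, inv_mul_cancel_right]
  suffices c = 1 by rw [← this]; exact e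
  funext i
  have e2 := congrArg (fun w : G × ∀ i, Equiv.Perm (data.P i × ZMod 3) => (w.2 () (⟨0, by norm_num⟩, 0)).2) e
  replace e2 : _ = ((lW (wordB ++ [0])).2 () (⟨0, by norm_num⟩, 0)).2 + c () := e2
  rw [lW_base, lW_base] at e2
  simp only at e2
  rw [hc] at e2
  exact (add_left_cancel e2).symm

/-- The triple cover. -/
theorem exists_three : ∃ (Γ : Type) (_ : Group Γ) (_ : Finite Γ) (σ : Γ →* G),
    Cfsg.IsStemExtension σ ∧ Nat.card σ.ker = 3 := by
  have hC : AddSubgroup.closure ({1} : Set (Unit → ZMod 3)) = ⊤ := by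
    refine eq_top_iff.2 fun c _ => ?_
    rw [AddSubgroup.mem_closure_singleton]
    refine ⟨((c ()).val : ℤ), funext fun u => ?_⟩
    simp only [Pi.smul_apply, Pi.one_apply, zsmul_one, Int.cast_natCast, ZMod.natCast_zmod_val]
  obtain ⟨hst, ⟨e⟩⟩ := Labelled.stem good G_perfect gens_generate
    (fun s hs => by obtain ⟨k, rfl⟩ := hs; exact ⟨lel k, lel_mem k, rfl⟩) hC
    (fun c hc => by rw [Set.mem_singleton_iff.1 hc]; exact exists_comm)
  let q : G ⧸ Subgroup.center G ≃* G :=
    (QuotientGroup.quotientMulEquivOfEq center_G).trans QuotientGroup.quotientBot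
  refine ⟨_, inferInstance, inferInstance, q.toMonoidHom.comp
    ((QuotientGroup.mk' (Subgroup.center G)).comp (Labelled.proj good)), ?_, ?_⟩
  · obtain ⟨h1, h2, h3⟩ := hst
    have hk : (q.toMonoidHom.comp ((QuotientGroup.mk' (Subgroup.center G)).comp (Labelled.proj good))).ker =
        ((QuotientGroup.mk' (Subgroup.center G)).comp (Labelled.proj good)).ker := by
      ext x; simp
    exact ⟨q.surjective.comp h1, by rw [hk]; exact h2, by rw [hk]; exact h3⟩
  · rw [show (q.toMonoidHom.comp ((QuotientGroup.mk' (Subgroup.center G)).comp (Labelled.proj good))).ker =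
        ((QuotientGroup.mk' (Subgroup.center G)).comp (Labelled.proj good)).ker from by ext x; simp, Nat.card_congr e.toEquiv, Nat.card_prod, center_G, Subgroup.card_bot, one_mul,
      Nat.card_congr Multiplicative.toAdd, Nat.card_fun, Nat.card_zmod, Nat.card_unique, pow_one]

end Cfsg.Agent.O73Mult
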