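import Cfsg.Agent.Lib.O73Mult.Graph

/-!
The edges under generator 0.
-/

set_option autoImplicit false
set_option maxRecDepth 20000

namespace Cfsg.Agent.O73Mult

theorem edges0 : edgesOK 0 = true := by decide +kernel

end Cfsg.Agent.O73Mult
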