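import Cfsg.Agent.Lib.O73Mult.Group

/-!
The spin cover of `Ω` has an involution in its kernel, without separating torus elements.
-/

set_option autoImplicit false

namespace Cfsg.Agent.Schur.OrthW

open CurtisTits CurtisTits.DType
open Cfsg.Agent.MaxCl Cfsg.Agent.MaxCl.Orth
open scoped MatrixGroups commutatorElement

universe u

variable {F : Type u} [Field F] [Finite F] {n : ℕ} {κ : Type} [Fintype κ] [DecidableEq κ]
  {QW : QuadraticForm F (κ → F)}

/-- An involution in the kernel of the spin cover. -/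
theorem exists_invol_ker (hn : 3 ≤ n) (hW : (QuadraticMap.polarBilin QW).Nondegenerate)
    (hB : ∃ w w' : κ → F, QuadraticMap.polar (⇑QW) w w' = 1) (h2 : (2 : F) ≠ 0) :
    ∃ z : Sig n QW, z ∈ (prS QW).ker ∧ z ≠ 1 ∧ z * z = 1 := by
  let φ : (Schur.OrthPlus.Cl F n)ˣ →* (Cl n QW)ˣ := Units.map (clMap n QW).toMonoidHom
  let ψ0 : Schur.OrthPlus.StD F n →* (Cl n QW)ˣ := φ.comp (Schur.OrthPlus.liftD Schur.OrthPlus.spinRels)
  let D : Ext (n := n) QW (GL (J n κ) F) :=
    { p := MonoidHom.id _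
      central := fun x hx => by rw [MonoidHom.mem_ker, MonoidHom.id_apply] at hx; rw [hx]; exact one_mem _
      memE := fun a b _ t => ⟨_, rfl⟩
      memS := fun a w => ⟨_, rfl⟩
      hn := hn
      hC := fun a c d hcd h1 h2 t w g h hg hh => by
        rw [MonoidHom.id_apply] at hg hh
        subst hg; subst hh
        exact S_comm_E QW hcd h1 h2 t w
      hB := hB }
  have hval : ∀ a b, lv a ≠ lv b → ∀ t, ψ0 ((Schur.OrthPlus.stRels F n).x a b t) =
      sgU QW (e F κ a) ((-t) • e F κ (ng b)) := fun a b h t => by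
    show φ (Schur.OrthPlus.liftD Schur.OrthPlus.spinRels _) = _
    rw [Schur.OrthPlus.liftD_x _ h]
    refine Units.ext ?_
    rw [sgU_val QW (Q_e QW a) (hE QW h _)]
    show clMap n QW ((Schur.OrthPlus.xU a b t : (Schur.OrthPlus.Cl F n)ˣ) : Schur.OrthPlus.Cl F n) = _
    rw [Schur.OrthPlus.xU_val h, map_add, map_one, map_smul, Schur.OrthPlus.rN, map_mul, clMap_ge, clMap_ge, map_smul,
      mul_smul_comm, neg_smul, sub_neg_eq_add]
  let L2 : Schur.OrthPlus.StD F n →* (Cl n QW)ˣ × GL (J n κ) F := ψ0.prod D.L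
  have hL2 : ∀ g, L2 g ∈ pairs n QW := fun g => by
    refine (show (⊤ : Subgroup _) ≤ (pairs n QW).comap L2 from ?_) (Subgroup.mem_top g)
    rw [← Schur.OrthPlus.closure_x, Subgroup.closure_le]
    rintro _ ⟨a, b, h, t, rfl⟩
    show (ψ0 _, D.L _) ∈ pairs n QW
    have hX : D.X a b t = E QW a b t := D.p_X h t
    rw [hval a b h, D.L_x h, hX]
    exact sg_pair_mem QW hn hW _ _
  let LP : Schur.OrthPlus.StD F n →* pairs n QW := L2.codRestrict _ hL2
  have hSig : ∀ g, LP g ∈ Sig n QW := fun g => by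
    refine (show (⊤ : Subgroup _) ≤ (Sig n QW).comap LP from ?_) (Subgroup.mem_top g)
    rw [← Schur.OrthPlus.closure_x, Subgroup.closure_le]
    rintro _ ⟨a, b, h, t, rfl⟩
    obtain ⟨c, hac, hbc⟩ := RelsD.exists_third hn a b
    have e1 : (Schur.OrthPlus.stRels F n).x a b t =
        ⁅(Schur.OrthPlus.stRels F n).x a c t, (Schur.OrthPlus.stRels F n).x c b 1⁆ := by
      have e := (Schur.OrthPlus.stRels F n).chain a c b hac hbc.symm h t 1
      rw [mul_one] at e
      rw [commutatorElement_def, e]; group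
    show LP _ ∈ Sig n QW
    rw [e1, map_commutatorElement]
    exact Subgroup.commutator_mem_commutator (Subgroup.mem_top _) (Subgroup.mem_top _)
  set z0 := Schur.OrthPlus.z0 (F := F) hn
  have hgl : D.L z0 = 1 := by
    refine gl_ext fun x => ?_
    rw [act_one, eq_sum x, map_add, map_sum]
    congr 1
    · refine Finset.sum_congr rfl fun a _ => ?_
      rw [map_smul]
      congr 1
      have := (D.act_L z0).1 (DModel.ev a)
      have hth : Schur.OrthPlus.theta F n z0 = 1 := by
        refine DModel.E_ext fun y q => ?_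
        have hm := (Schur.OrthPlus.mono_h (F := F) (a := Sum.inl (Schur.OrthPlus.i0 hn))
          (b := Sum.inr (Schur.OrthPlus.i1 hn)) (Schur.OrthPlus.i0_ne_i1 hn) (-1)).mul
          (Schur.OrthPlus.mono_h (F := F) (a := Sum.inl (Schur.OrthPlus.i0 hn))
          (b := Sum.inl (Schur.OrthPlus.i1 hn)) (Schur.OrthPlus.i0_ne_i1 hn) (-1))
        have h' := hm y q
        rw [one_mul, Equiv.Perm.one_apply, ← map_mul] at h'
        show act (Schur.OrthPlus.theta F n (Schur.OrthPlus.z0 hn)) y q = _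
        rw [Schur.OrthPlus.z0, h', act_one]
        have h01 := Schur.OrthPlus.i0_ne_i1 hn
        simp only [Schur.OrthPlus.hc, Equiv.Perm.one_apply]
        rcases q with q | q <;> by_cases q0 : q = Schur.OrthPlus.i0 hn <;>
          by_cases q1 : q = Schur.OrthPlus.i1 hn <;> simp_all [ng, h01.symm]
      rw [hth, act_one] at this
      exact this
    · exact (D.act_L _).2 _
  have hneg : ((ψ0 z0 : (Cl n QW)ˣ) : Cl n QW) = -1 := by
    show clMap n QW ((Schur.OrthPlus.liftD Schur.OrthPlus.spinRels (Schur.OrthPlus.z0 hn) :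
      (Schur.OrthPlus.Cl F n)ˣ) : Schur.OrthPlus.Cl F n) = _
    rw [Schur.OrthPlus.spin_z0 hn, map_neg, map_one]
  refine ⟨⟨LP z0, hSig z0⟩, ?_, fun hz => ?_, ?_⟩
  · rw [MonoidHom.mem_ker]
    exact hgl
  · have h := congrArg (fun s : Sig n QW => (((s : pairs n QW) : (Cl n QW)ˣ × GL (J n κ) F).1 : Cl n QW)) hz
    change ((ψ0 z0 : (Cl n QW)ˣ) : Cl n QW) = 1 at h
    rw [hneg] at h
    have : Invertible (2 : F) := invertibleOfNonzero h2
    apply h2
    refine (algebraMap F (Cl n QW)).injective ?_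
    rw [map_ofNat, map_zero, ← one_add_one_eq_two, add_eq_zero_iff_eq_neg, h]
  · refine Subtype.ext (Subtype.ext (Prod.ext (Units.ext ?_) ?_))
    · show ((ψ0 z0 : (Cl n QW)ˣ) : Cl n QW) * ((ψ0 z0 : (Cl n QW)ˣ) : Cl n QW) = 1
      rw [hneg, neg_mul_neg, one_mul]
    · show D.L z0 * D.L z0 = 1
      rw [hgl, one_mul]

end Cfsg.Agent.Schur.OrthW
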