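import Cfsg.Agent.Lib.O73Mult.Cover
import Cfsg.Agent.Lib.O73Mult.Spin
import Cfsg.Agent.Lib.Schur.FibreProduct
import Mathlib.FieldTheory.Finite.GaloisField

/-!
The Schur multiplier of `PΩ₇(3)`.
-/

set_option autoImplicit false
set_option linter.style.haveILetI false

namespace Cfsg.Agent.O73Mult

open Subgroup
open Cfsg.Agent.MaxCl Cfsg.Agent.MaxCl.Orth
open Cfsg.Agent.Schur.OrthW
open scoped MatrixGroups

universe u

variable {F : Type u} [Field F] [Fintype F]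

theorem omega_perfect_top (h3 : Fintype.card F = 3) :
    _root_.commutator (Cfsg.Geo.omegaGL ⇑(qf 3 (sqQ F))) = ⊤ := by
  refine eq_top_iff.2 fun g _ => ?_
  have h : g.1 ∈ ⁅Cfsg.Geo.omegaGL ⇑(qf 3 (sqQ F)), Cfsg.Geo.omegaGL ⇑(qf 3 (sqQ F))⁆ :=
    omega_perfect (sqQ F) le_rfl (sqQ_facts (two_ne_of_card_three h3)).2.1 g.2
  rw [← Subgroup.map_subtype_commutator] at h
  obtain ⟨y, hy, e⟩ := h
  exact (Subtype.ext e : y = g) ▸ hy

/-- The kernels of stem extensions. -/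
theorem stem_ker (h3 : Fintype.card F = 3) {Γ : Type u} [Group Γ] [Finite Γ]
    (σ : Γ →* Cfsg.Geo.omegaGL ⇑(qf 3 (sqQ F))) (hσ : Cfsg.IsStemExtension σ) :
    IsCyclic σ.ker ∧ Nat.card σ.ker ∣ 6 := by
  obtain ⟨hs, hz, hc⟩ := hσ
  have hperf : _root_.commutator Γ = ⊤ := by
    rw [eq_top_iff]
    intro g _
    have hmap : (_root_.commutator Γ).map σ = ⊤ := by
      rw [commutator_def, Subgroup.map_commutator, Subgroup.map_top_of_surjective σ hs, ← commutator_def,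
        omega_perfect_top h3]
    obtain ⟨d, hd, e⟩ := hmap.symm ▸ Subgroup.mem_top (σ g)
    have : d⁻¹ * g ∈ σ.ker := by rw [MonoidHom.mem_ker, map_mul, map_inv, e, inv_mul_cancel]
    simpa using mul_mem hd (hc this)
  let p : Γ →* GL (J 3 Unit) F := (Subgroup.subtype _).comp σ
  have hk : p.ker = σ.ker := by ext x; simp [p]
  have hr : p.range = Cfsg.Geo.omegaGL ⇑(qf 3 (sqQ F)) := by
    rw [MonoidHom.range_comp, MonoidHom.range_eq_top.2 hs, ← MonoidHom.range_eq_map, Subgroup.range_subtype]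
  rw [← hk]
  exact ker_cyclic_six h3 p (hk ▸ hz) hr hperf

/-- A stem extension with kernel of order six. -/
theorem exists_six : ∃ (Γ : Type) (_ : Group Γ) (_ : Finite Γ) (σ : Γ →* G),
    Cfsg.IsStemExtension σ ∧ Nat.card σ.ker = 6 := by
  haveI := finite_Sig QW le_rfl hW
  have hmem : ∀ g, prS QW g ∈ G := fun g => by rw [G, ← range_prS QW le_rfl hW]; exact ⟨g, rfl⟩
  let α : Sig 3 QW →* G := (prS QW).codRestrict G hmem
  have hαk : ∀ x, x ∈ α.ker ↔ x ∈ (prS QW).ker := fun x => by simp [α, MonoidHom.mem_ker, Subtype.ext_iff]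
  have hα : Cfsg.IsStemExtension α := by
    refine ⟨fun g => ?_, fun x hx => ker_prS QW ((hαk x).1 hx), by rw [commutator_Sig QW le_rfl hW]; exact le_top⟩
    obtain ⟨x, hx⟩ : g.1 ∈ (prS (n := 3) QW).range := by rw [range_prS QW le_rfl hW]; exact g.2
    exact ⟨x, Subtype.ext hx⟩
  have hA := (stem_ker card_K α hα).2
  obtain ⟨z, hz, hz1, hz2⟩ := exists_invol_ker (QW := QW) le_rfl hW (sqQ_facts two_ne).2.2.2 two_ne
  have h2 : 2 ∣ Nat.card α.ker := by
    have h : orderOf (⟨z, (hαk z).2 hz⟩ : α.ker) = 2 :=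
      orderOf_eq_prime (Subtype.ext (by rw [Subgroup.coe_pow, pow_two]; exact hz2))
        fun e => hz1 (congrArg Subtype.val e)
    rw [← h]
    exact orderOf_dvd_natCard _
  have hA' : Nat.card α.ker = 2 ∨ Nat.card α.ker = 6 := by
    have := Nat.le_of_dvd (by norm_num) hA
    interval_cases h : Nat.card α.ker <;> simp_all
  rcases hA' with hA' | hA'
  · obtain ⟨B, _, _, β, hβ, hB⟩ := exists_three
    obtain ⟨hst, ⟨e⟩⟩ := Schur.isStemExtension_fibre hα hβ (m := 2) (n := 3) (by norm_num)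
      (fun a ha => by
        have := congrArg Subtype.val (pow_card_eq_one' (x := (⟨a, ha⟩ : α.ker)))
        rwa [hA', Subgroup.coe_pow] at this)
      (fun b hb => by
        have := congrArg Subtype.val (pow_card_eq_one' (x := (⟨b, hb⟩ : β.ker)))
        rwa [hB, Subgroup.coe_pow] at this)
    refine ⟨_, inferInstance, inferInstance, _, hst, ?_⟩
    rw [Nat.card_congr e.toEquiv, Nat.card_prod, hA', hB]
  · exact ⟨_, inferInstance, inferInstance, α, hα, hA'⟩

/-- `Ω` of a quadratic form transported along an equivalence of fields preserving it. -/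
theorem omega_equiv (h3 : Fintype.card F = 3) : Nonempty (G ≃* Cfsg.Geo.omegaGL ⇑(qf 3 (sqQ F))) := by
  obtain ⟨f⟩ : Nonempty (K ≃+* F) := ⟨FiniteField.ringEquivOfCardEq (K := K) (K' := F) (card_K.trans h3.symm)⟩
  let Φ : GL (J 3 Unit) K ≃* GL (J 3 Unit) F := Units.mapEquiv f.mapMatrix.toMulEquiv
  have hcomm : ∀ (g : GL (J 3 Unit) K) (x : J 3 Unit → K), act (Φ g) (f ∘ x) = f ∘ act g x := fun g x => by
    funext i
    show (((Φ g : GL (J 3 Unit) F) : Matrix _ _ F).mulVec (f ∘ x)) i = f ((((g : GL (J 3 Unit) K) : Matrix _ _ K).mulVec x) i)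
    exact (RingHom.map_mulVec (f : K →+* F) _ x i).symm
  have hq : ∀ x : J 3 Unit → K, qf 3 (sqQ F) (f ∘ x) = f (qf 3 QW x) := fun x => by
    simp only [qf_apply, sqQ_apply, QForm.plusForm_apply, Cfsg.quadFormPlus, map_add, map_mul, map_sum,
      Function.comp_apply]
  have hiso : ∀ g, g ∈ Cfsg.isometryGroup K ⇑(qf 3 QW) ↔ Φ g ∈ Cfsg.isometryGroup F ⇑(qf 3 (sqQ F)) := fun g => by
    rw [mem_iso, mem_iso]
    constructor
    · intro h x
      obtain ⟨x, rfl⟩ : ∃ y : J 3 Unit → K, x = f ∘ y := ⟨f.symm ∘ x, by funext i; simp⟩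
      rw [hcomm, hq, hq, h x]
    · intro h x
      apply f.injective
      rw [← hq, ← hq, ← hcomm]
      exact h _
  have hmap : Cfsg.Geo.omegaGL ⇑(qf 3 (sqQ F)) = G.map Φ.toMonoidHom := by
    have hI : Cfsg.isometryGroup F ⇑(qf 3 (sqQ F)) = (Cfsg.isometryGroup K ⇑(qf 3 QW)).map Φ.toMonoidHom := by
      ext g
      refine ⟨fun h => ⟨Φ.symm g, (hiso _).2 (by rwa [Φ.apply_symm_apply]), Φ.apply_symm_apply g⟩, ?_⟩
      rintro ⟨y, hy, rfl⟩
      exact (hiso y).1 hy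
    have h1 : ∀ {E : Type u} [Field E] (Q : QuadraticForm E (J 3 Unit → E)),
        Cfsg.Geo.omegaGL ⇑Q = ⁅Cfsg.isometryGroup E ⇑Q, Cfsg.isometryGroup E ⇑Q⁆ := fun Q => by
      rw [Cfsg.Geo.omegaGL, Cfsg.Omega, Subgroup.map_subtype_commutator]
    have h0 : G = ⁅Cfsg.isometryGroup K ⇑(qf 3 QW), Cfsg.isometryGroup K ⇑(qf 3 QW)⁆ := by
      rw [G, Cfsg.Geo.omegaGL, Cfsg.Omega, Subgroup.map_subtype_commutator]
    rw [h1, hI, ← Subgroup.map_commutator, ← h0]
  exact ⟨(Subgroup.equivMapOfInjective _ Φ.toMonoidHom Φ.injective).trans (MulEquiv.subgroupCongr hmap.symm)⟩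

/-- **The Schur multiplier of `Ω₇(3)`.** -/
theorem hasSchurMultiplier_omega (h3 : Fintype.card F = 3) :
    Cfsg.HasCyclicSchurMultiplier (Cfsg.Geo.omegaGL ⇑(qf 3 (sqQ F))) 6 := by
  have hsecond : ∀ (Γ : Type u) [Group Γ] [Finite Γ] (σ : Γ →* Cfsg.Geo.omegaGL ⇑(qf 3 (sqQ F))),
      Cfsg.IsStemExtension σ → ∃ π : Multiplicative (ZMod 6) →* σ.ker, Function.Surjective π := by
    intro Γ _ _ σ hσ
    obtain ⟨hcyc, hd⟩ := stem_ker h3 σ hσ
    let e := zmodCyclicMulEquiv hcyc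
    let c : ZMod 6 →+ ZMod (Nat.card σ.ker) := (ZMod.castHom hd _).toAddMonoidHom
    exact ⟨e.toMonoidHom.comp c.toMultiplicative, e.surjective.comp (ZMod.castHom_surjective hd)⟩
  refine ⟨?_, hsecond⟩
  obtain ⟨M0, _, _, σ0, hst, hcard⟩ := exists_six
  obtain ⟨e⟩ := omega_equiv h3
  let d : ULift.{u} M0 ≃* M0 := MulEquiv.ulift
  let σ : ULift.{u} M0 →* Cfsg.Geo.omegaGL ⇑(qf 3 (sqQ F)) := e.toMonoidHom.comp (σ0.comp d.toMonoidHom)
  have hker : ∀ x, x ∈ σ.ker ↔ d x ∈ σ0.ker := fun x => e.map_eq_one_iff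
  have hσ : Cfsg.IsStemExtension σ := by
    refine ⟨e.surjective.comp (hst.1.comp d.surjective), fun x hx => ?_, fun x hx => ?_⟩
    · exact mem_center_iff.2 fun g => d.injective (by
        rw [map_mul, map_mul]
        exact mem_center_iff.1 (hst.2.1 ((hker x).1 hx)) _)
    · have h1 := hst.2.2 ((hker x).1 hx)
      have h2 : (_root_.commutator M0).map d.symm.toMonoidHom ≤ _root_.commutator (ULift.{u} M0) := by
        rw [_root_.commutator_def, _root_.commutator_def, Subgroup.map_commutator]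
        exact commutator_mono le_top le_top
      exact h2 ⟨d x, h1, d.symm_apply_apply x⟩
  obtain ⟨π, hπ⟩ := hsecond _ σ hσ
  refine ⟨_, inferInstance, inferInstance, σ, hσ, ⟨(MulEquiv.ofBijective π (hπ.bijective_of_nat_card_le ?_)).symm⟩⟩
  let k : σ0.ker → σ.ker := fun y => ⟨d.symm y, (hker _).2 (by rw [d.apply_symm_apply]; exact y.2)⟩
  rw [Nat.card_congr Multiplicative.toAdd, Nat.card_zmod]
  exact hcard.ge.trans (Nat.card_le_card_of_injective k fun y y' h =>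
    Subtype.ext (d.symm.injective (congrArg Subtype.val h)))

/-- **The Schur multiplier of `PΩ₇(3)`.** -/
theorem hasSchurMultiplier (h3 : Fintype.card F = 3) :
    Cfsg.HasCyclicSchurMultiplier (Cfsg.POmega F (Cfsg.quadFormOdd 3 F)) 6 := by
  obtain ⟨e⟩ := pomega_reindex (Equiv.sumComm (Cfsg.Agent.CurtisTits.SIdx 3) Unit) (⇑(qf 3 (sqQ F)))
    (Cfsg.quadFormOdd 3 F) fun v => by
      rw [qf_apply, sqQ_apply, QForm.plusForm_apply, Cfsg.quadFormOdd, Cfsg.quadFormPlus, pow_two, add_comm]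
      rfl
  let e1 : Cfsg.Geo.omegaGL ⇑(qf 3 (sqQ F)) ≃* Cfsg.Omega F ⇑(qf 3 (sqQ F)) :=
    (Subgroup.equivMapOfInjective _ _ (Subgroup.subtype_injective _)).symm
  let e2 : Cfsg.POmega F ⇑(qf 3 (sqQ F)) ≃* Cfsg.Omega F ⇑(qf 3 (sqQ F)) :=
    (QuotientGroup.quotientMulEquivOfEq (center_omega (two_ne_of_card_three h3))).trans QuotientGroup.quotientBot
  exact hasSchurMultiplier_congr (e1.trans (e2.symm.trans e)) (hasSchurMultiplier_omega h3)

end Cfsg.Agent.O73Mult
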