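import Cfsg.Agent.Lib.O73Mult.Group
import Cfsg.Agent.Lib.O73Mult.Data
import Cfsg.Agent.Lib.Schur.Labelled

/-!
The labelled graph on the 378 points with `Q = 1`.
-/

set_option autoImplicit false
set_option maxRecDepth 20000

namespace Cfsg.Agent.O73Mult

open Cfsg.Agent.Chev (Tab allLt allLt_iff)
open Cfsg.Agent.CurtisTits Cfsg.Agent.CurtisTits.DType
open Cfsg.Agent.MaxCl Cfsg.Agent.MaxCl.Orth
open Cfsg.Agent.Schur
open Cfsg.Agent.Schur.OrthW (J)

/-- The position of a coordinate. -/
def pos : I → ℕ
  | .inl (.inl i) => i.val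
  | .inl (.inr i) => 3 + i.val
  | .inr _ => 6

/-- The coordinates in order. -/
def coords : List I :=
  [.inl (.inl 0), .inl (.inl 1), .inl (.inl 2), .inl (.inr 0), .inl (.inr 1), .inl (.inr 2), .inr ()]

/-- The code of a vector. -/
noncomputable def enc (v : I → K) : ℕ := (coords.map fun i => (v i).val * 3 ^ pos i).sum

/-- A point. -/
noncomputable def pt (x : ℕ) : I → K := fun i => ((ptCode.get x / 3 ^ pos i % 3 : ℕ) : K)

/-- The index of a code. -/
noncomputable def find (v : I → K) : ℕ := ptInv.get (enc v)

/-- An entry of a row. -/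
noncomputable def slot (x j : ℕ) : ℕ := (nbRow.get x >>> (11 * j)) &&& 2047

/-- The labelled graph. -/
noncomputable def data : Labelled.Data G Unit (ZMod 3) where
  P := fun _ => Fin 378
  act := fun _ g x y => act g.1 (pt x.val) = pt y.val ∨ act g.1 (pt x.val) = -pt y.val
  nb := fun _ x => (List.range 117).map fun j => (Fin.ofNat 378 (slot x.val j / 4), ((slot x.val j % 4 : ℕ) : ZMod 3))

instance finiteP (i : Unit) : Finite (data.P i) := inferInstanceAs (Finite (Fin 378))

instance nonemptyP (i : Unit) : Nonempty (data.P i) := inferInstanceAs (Nonempty (Fin 378))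

/-- The points are distinct up to sign. -/
noncomputable def injOK : Bool := allLt 378 fun x => Nat.beq (find (pt x)) x && Nat.beq (find (-pt x)) x

theorem injOK_true : injOK = true := by decide +kernel

theorem find_pt (x : Fin 378) : find (pt x.val) = x.val ∧ find (-pt x.val) = x.val := by
  have h := allLt_iff.1 injOK_true _ x.2
  rw [Bool.and_eq_true] at h
  exact ⟨Nat.eq_of_beq_eq_true h.1, Nat.eq_of_beq_eq_true h.2⟩

theorem pt_inj {i : Unit} {x y : data.P i} (h : pt x.val = pt y.val ∨ pt x.val = -pt y.val) : y = x := by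
  refine Fin.ext ?_
  rcases h with h | h
  · rw [← (find_pt y).1, ← h, (find_pt x).1]
  · rw [← (find_pt y).2, ← h, (find_pt x).1]

/-- The rows and the tree. -/
noncomputable def graphOK : Bool := allLt 378 fun x =>
  allLt 116 (fun j => Nat.blt (slot x j / 4) (slot x (j + 1) / 4)) &&
    allLt 117 (fun j => Nat.blt (slot x j / 4) 378) &&
      (Nat.beq x 0 ||
        (Nat.blt (treePar.get x / 128) x && Nat.blt (treePar.get x % 128) 117 &&
          Nat.beq (slot (treePar.get x / 128) (treePar.get x % 128) / 4) x))

theorem graphOK_true : graphOK = true := by decide +kernel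

theorem graph_facts (x : ℕ) (hx : x < 378) :
    (∀ j < 116, slot x j / 4 < slot x (j + 1) / 4) ∧ (∀ j < 117, slot x j / 4 < 378) ∧
      (x = 0 ∨ treePar.get x / 128 < x ∧ treePar.get x % 128 < 117 ∧
        slot (treePar.get x / 128) (treePar.get x % 128) / 4 = x) := by
  have h := allLt_iff.1 graphOK_true _ hx
  simp only [Bool.and_eq_true, Bool.or_eq_true, Nat.blt_eq, Nat.beq_eq] at h
  refine ⟨fun j hj => ?_, fun j hj => ?_, ?_⟩
  · simpa [Nat.blt_eq] using allLt_iff.1 h.1.1 j hj
  · simpa [Nat.blt_eq] using allLt_iff.1 h.1.2 j hj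
  · rcases h.2 with h' | h'
    · exact Or.inl h'
    · exact Or.inr ⟨h'.1.1, h'.1.2, h'.2⟩

theorem good : Labelled.Good data where
  act_mul := by
    intro i g h x y z hxy hyz
    show _ ∨ _
    rw [Subgroup.coe_mul, act_mul]
    rcases hxy with h1 | h1 <;> rcases hyz with h2 | h2 <;> rw [h1] <;>
      simp only [map_neg, h2, neg_neg, true_or, or_true]
  act_center := by
    intro i g hg x y
    rw [center_G, Subgroup.mem_bot] at hg
    subst hg
    show (act ((1 : G) : GL I K) _ = _ ∨ _) ↔ _
    rw [Subgroup.coe_one, act_one]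
    exact ⟨fun h => pt_inj h, fun h => Or.inl (by rw [h])⟩
  nb_func := by
    intro i x y a b ha hb
    obtain ⟨j, hj, ej⟩ := List.mem_map.1 ha
    obtain ⟨k, hk, ek⟩ := List.mem_map.1 hb
    rw [List.mem_range] at hj hk
    obtain ⟨hinc, hlt, -⟩ := graph_facts _ x.2
    have mono : ∀ a b, a < b → b < 117 → slot x.val a / 4 < slot x.val b / 4 := fun a b hab hb => by
      induction b with
      | zero => omega
      | succ n ih =>
        rcases Nat.lt_succ_iff_lt_or_eq.1 hab with h | h
        · exact lt_trans (ih h (by omega)) (hinc n (by omega))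
        · subst h; exact hinc a (by omega)
    have e := congrArg Fin.val ((congrArg Prod.fst ej).trans (congrArg Prod.fst ek).symm)
    simp only [Fin.ofNat, Nat.mod_eq_of_lt (hlt j hj), Nat.mod_eq_of_lt (hlt k hk)] at e
    have hjk : j = k := by
      rcases Nat.lt_trichotomy j k with h | h | h
      · exact absurd e (mono j k h hk).ne
      · exact h
      · exact absurd e.symm (mono k j h hj).ne
    subst hjk
    exact ((congrArg Prod.snd ej).symm.trans (congrArg Prod.snd ek))
  connected := by
    intro i
    refine ⟨(⟨0, by norm_num⟩ : Fin 378), ?_⟩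
    suffices ∀ n, ∀ x : data.P i, x.val = n →
        Relation.ReflTransGen (fun u v => ∃ a, (v, a) ∈ data.nb i u) ⟨0, by norm_num⟩ x from fun x => this _ x rfl
    intro n
    induction n using Nat.strong_induction_on with
    | _ n ih =>
      intro x hx
      by_cases h0 : n = 0
      · rw [show x = ⟨0, by norm_num⟩ from Fin.ext (hx.trans h0)]
        exact .refl
      obtain ⟨-, -, h⟩ := graph_facts _ x.2
      obtain ⟨hp, hj, he⟩ := h.resolve_left (by omega)
      let p : data.P i := ⟨treePar.get x.val / 128, by have := x.2; omega⟩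
      refine (ih p.val (by rw [← hx]; exact hp) p rfl).tail ⟨_, List.mem_map.2 ⟨_, List.mem_range.2 hj, Prod.ext ?_ rfl⟩⟩
      refine Fin.ext ?_
      show slot p.val (treePar.get x.val % 128) / 4 % 378 = x.val
      rw [he, Nat.mod_eq_of_lt x.2]

/-- The images of the points under a generator. -/
noncomputable def elPerm (k : ℕ) : Tab ℕ := if Nat.beq k 0 then elPerm0 else elPerm1

/-- The slots of a generator. -/
noncomputable def elSlot (k : ℕ) : Tab ℕ := if Nat.beq k 0 then elSlot0 else elSlot1

/-- The image and translation code of a point. -/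
noncomputable def pw (k x : ℕ) : ℕ := (elPerm k).get x

/-- The certificate of an edge. -/
noncomputable def edgeOK (k x j : ℕ) : Bool :=
  let s := ((elSlot k).get x >>> (7 * j)) &&& 127
  let w := slot x j
  let y := w / 4
  Nat.blt s 117 &&
    Nat.beq (slot (pw k x / 4) s) (pw k y / 4 * 4 + (w % 4 + pw k y % 4 + 2 * (pw k x % 4)) % 3)

/-- The certificate of the action of a generator. -/
noncomputable def actOK (k : Fin 2) : Bool := allLt 378 fun x =>
  Nat.blt (pw k.val x / 4) 378 &&
    (decide (genV k (pt x) = pt (pw k.val x / 4)) || decide (genV k (pt x) = -pt (pw k.val x / 4)))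

theorem actOK0 : actOK 0 = true := by decide +kernel

theorem actOK1 : actOK 1 = true := by decide +kernel

/-- The certificate of the edges of a generator. -/
noncomputable def edgesOK (k : ℕ) : Bool := allLt 378 fun x => allLt 117 fun j => edgeOK k x j

end Cfsg.Agent.O73Mult
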