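import Cfsg.Agent.Lib.Schur.OrthW.ThreeThree
import Cfsg.Agent.Lib.Forms.OmegaOrder

/-!
`Ω₇(3)` over `ZMod 3`: two generators and their actions.
-/

set_option autoImplicit false

namespace Cfsg.Agent.O73Mult

open Cfsg.Agent.CurtisTits Cfsg.Agent.CurtisTits.DType
open Cfsg.Agent.MaxCl Cfsg.Agent.MaxCl.Orth
open Cfsg.Agent.Schur.OrthW
open scoped MatrixGroups commutatorElement

/-- The field. -/
abbrev K : Type := ZMod 3

instance : Fact (Nat.Prime 3) := ⟨Nat.prime_three⟩

/-- The anisotropic form. -/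
noncomputable abbrev QW : QuadraticForm K (Unit → K) := sqQ K

/-- The coordinates. -/
abbrev I : Type := J 3 Unit

/-- `Ω₇(3)`. -/
noncomputable abbrev G : Subgroup (GL I K) := Cfsg.Geo.omegaGL ⇑(qf 3 QW)

theorem card_K : Fintype.card K = 3 := ZMod.card 3

theorem two_ne : (2 : K) ≠ 0 := by decide

theorem hW : (QuadraticMap.polarBilin QW).Nondegenerate := (sqQ_facts two_ne).2.1

/-- The vector of the anisotropic part. -/
def u1 : Unit → K := fun _ => 1

theorem Q_u1 : QW u1 = 1 := by rw [sqQ_apply]; rfl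

/-- The signed index `i`. -/
def ix (i : Fin 3) : SIdx 3 := Sum.inl i

theorem lv01 : lv (ix 0) ≠ lv (ix 1) := by decide

theorem lv12 : lv (ix 1) ≠ lv (ix 2) := by decide

/-- The short root element. -/
noncomputable def gS : GL I K := S QW (ix 0) u1

/-- The monomial element. -/
noncomputable def gN : GL I K :=
  (longRels QW).w (ix 0) (ix 1) 1 * (longRels QW).w (ix 1) (ix 2) 1 * wS QW (ix 2) u1

/-- The permutation of the monomial element. -/
def sigma : Equiv.Perm (SIdx 3) := sw (ix 0) (ix 1) * sw (ix 1) (ix 2) * Equiv.swap (ix 2) (ng (ix 2))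

theorem gS_mem : gS ∈ G := S_mem_omega QW le_rfl hW _ _

theorem gN_mem : gN ∈ G :=
  mul_mem (mul_mem (mul_mem (mul_mem (E_mem_omega QW le_rfl hW _ _ _) (E_mem_omega QW le_rfl hW _ _ _))
    (E_mem_omega QW le_rfl hW _ _ _)) (mul_mem (mul_mem (E_mem_omega QW le_rfl hW _ _ _)
    (E_mem_omega QW le_rfl hW _ _ _)) (E_mem_omega QW le_rfl hW _ _ _)))
    (mul_mem (mul_mem (S_mem_omega QW le_rfl hW _ _) (S_mem_omega QW le_rfl hW _ _)) (S_mem_omega QW le_rfl hW _ _))

theorem mono_gN : IsMono QW gN sigma (fun _ => -1) (-LinearMap.id) := by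
  have hu : QW u1 ≠ 0 := by rw [Q_u1]; exact one_ne_zero
  have h := ((mono_w QW lv01 (one_ne_zero (α := K))).mul (mono_w QW lv12 (one_ne_zero (α := K)))).mul
    (mono_wS QW (ix 2) hu)
  refine ⟨gN_mem |> omega_le_iso, fun a => ?_, fun w => ?_⟩
  · refine (h.map_e a).trans ?_
    rw [Q_u1]
    congr 1
    revert a
    decide +kernel
  · refine (h.map_wv w).trans (congrArg (wv 3) ?_)
    rw [LinearMap.comp_apply, LinearMap.comp_apply, LinearMap.id_apply, LinearMap.id_apply, rW_apply, Q_u1, inv_one,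
      one_mul, polar_sqQ]
    funext i
    simp only [Pi.sub_apply, Pi.smul_apply, LinearMap.neg_apply, LinearMap.id_apply, Pi.neg_apply, smul_eq_mul, u1]
    ring

/-- The action of the short root element. -/
def sV (x : I → K) : I → K :=
  x + x (.inl (ng (ix 0))) • wv 3 u1 - (2 * x (.inr ()) + x (.inl (ng (ix 0)))) • e K Unit (ix 0)

/-- The action of the monomial element. -/
def nV (x : I → K) : I → K :=
  (∑ a, x (.inl a) • (-1 : K) • e K Unit (sigma a)) + wv 3 (-fun k => x (.inr k))

theorem act_gS (x : I → K) : act gS x = sV x := by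
  rw [gS, act_S, polar_sqQ, Q_u1, one_mul, sV]
  congr 2
  show 2 * (1 * x (.inr ())) + _ = _
  rw [one_mul]

theorem act_gN (x : I → K) : act gN x = nV x := by
  conv_lhs => rw [eq_sum x]
  rw [map_add, map_sum, mono_gN.map_wv, nV]
  refine congrArg₂ (· + ·) (Finset.sum_congr rfl fun a _ => ?_) rfl
  rw [map_smul, mono_gN.map_e]

/-- A generator. -/
noncomputable def gen (k : Fin 2) : G := if k.val = 0 then ⟨gS, gS_mem⟩ else ⟨gN, gN_mem⟩

/-- The action of a generator. -/
def genV (k : Fin 2) (x : I → K) : I → K := if k.val = 0 then sV x else nV x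

theorem act_gen (k : Fin 2) (x : I → K) : act (gen k).1 x = genV k x := by
  unfold gen genV
  split_ifs
  · exact act_gS x
  · exact act_gN x

/-- The action of a word. -/
def wordV : List (Fin 2) → (I → K) → I → K
  | [], x => x
  | k :: l, x => genV k (wordV l x)

theorem act_word : ∀ (l : List (Fin 2)) (x : I → K), act (l.map gen).prod.1 x = wordV l x
  | [], x => by rw [List.map_nil, List.prod_nil, Subgroup.coe_one, act_one]; rfl
  | k :: l, x => by rw [List.map_cons, List.prod_cons, Subgroup.coe_mul, act_mul, act_word l, act_gen]; rfl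

theorem gl_ext_basis {g h : GL I K} (H : ∀ i, act g (Pi.single i 1) = act h (Pi.single i 1)) : g = h := by
  refine gl_ext fun x => ?_
  conv_lhs => rw [show x = ∑ i, x i • (Pi.single i 1 : I → K) from
    funext fun j => by simp [Finset.sum_apply, Pi.single_apply]]
  conv_rhs => rw [show x = ∑ i, x i • (Pi.single i 1 : I → K) from
    funext fun j => by simp [Finset.sum_apply, Pi.single_apply]]
  simp only [map_sum, map_smul, H]

theorem gens_generate : Subgroup.closure (Set.range gen) = ⊤ := by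
  classical
  set C := (Subgroup.closure (Set.range gen)).map G.subtype with hC
  have hs : gS ∈ C := ⟨gen 0, Subgroup.subset_closure ⟨0, rfl⟩, rfl⟩
  have hn : gN ∈ C := ⟨gen 1, Subgroup.subset_closure ⟨1, rfl⟩, rfl⟩
  have step : ∀ a, (∀ w, S QW a w ∈ C) → ∀ w, S QW (sigma a) w ∈ C := fun a h w => by
    have := mono_gN.conj_S a w
    rw [LinearMap.neg_apply, LinearMap.id_apply, smul_neg, neg_one_smul, neg_neg] at this
    rw [← this]
    exact mul_mem (mul_mem hn (h w)) (inv_mem hn)
  have h0 : ∀ w, S QW (ix 0) w ∈ C := fun w => by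
    have hw : w = fun _ => w () := funext fun _ => rfl
    rcases three_cases card_K (w ()) with h | h | h <;> rw [hw, h]
    · rw [show (fun _ : Unit => (0 : K)) = 0 from rfl, S_zero]; exact one_mem _
    · exact hs
    · rw [show (fun _ : Unit => (-1 : K)) = -u1 from rfl, S_neg]; exact inv_mem hs
  have hpow : ∀ (k : ℕ) w, S QW ((sigma ^ k) (ix 0)) w ∈ C := fun k => by
    induction k with
    | zero => exact h0
    | succ k ih => rw [pow_succ', Equiv.Perm.mul_apply]; exact step _ ih
  have hall : ∀ a, ∃ k : Fin 6, (sigma ^ (k : ℕ)) (ix 0) = a := by decide +kernel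
  have hS' : ∀ a w, S QW a w ∈ C := fun a w => by
    obtain ⟨k, rfl⟩ := hall a
    exact hpow k w
  have hE : ∀ a b, lv a ≠ lv b → ∀ t : K, E QW a b t ∈ C := fun a b h t => by
    have h' : lv a ≠ lv (ng b) := by rwa [lv_ng]
    have e := comm_SS QW h' (t • u1) u1
    have e2 : -QuadraticMap.polar (⇑QW) (t • u1) u1 = t := by
      rw [polar_sqQ]
      show -(2 * (t * 1 * 1)) = t
      rw [show (2 : K) = -1 by decide]
      ring
    rw [ng_ng, e2] at e
    rw [← e, commutatorElement_def]
    exact mul_mem (mul_mem (mul_mem (hS' _ _) (hS' _ _)) (inv_mem (hS' _ _))) (inv_mem (hS' _ _))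
  refine eq_top_iff.2 fun g _ => ?_
  obtain ⟨g', hg', e⟩ := omega_le QW le_rfl hW hE hS' g.2
  exact (Subtype.ext e : g' = g) ▸ hg'

theorem G_perfect : _root_.commutator G = ⊤ := by
  refine eq_top_iff.2 fun g _ => ?_
  have h : g.1 ∈ ⁅G, G⁆ := omega_perfect QW le_rfl hW g.2
  rw [← Subgroup.map_subtype_commutator] at h
  obtain ⟨y, hy, e⟩ := h
  exact (Subtype.ext e : y = g) ▸ hy

theorem five_le' : 5 ≤ Fintype.card I := by decide

theorem det_of_mem {F : Type*} [Field F] [Finite F] {Q : QuadraticForm F (Unit → F)}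
    (hQ : (QuadraticMap.polarBilin Q).Nondegenerate) (g : Cfsg.Omega F ⇑(qf 3 Q)) :
    Matrix.GeneralLinearGroup.det (g.1.1 : GL I F) = 1 :=
  MonoidHom.mem_ker.1 (Abelianization.commutator_subset_ker
    (Matrix.GeneralLinearGroup.det.comp (isometryGroup F ⇑(qf 3 Q)).subtype) g.2)

/-- The centre of `Ω₇` over a finite field of odd order is trivial. -/
theorem center_omega {F : Type*} [Field F] [Fintype F] (h2 : (2 : F) ≠ 0) :
    Subgroup.center (Cfsg.Omega F ⇑(qf 3 (sqQ F))) = ⊥ := by
  have hW := (sqQ_facts (F := F) h2).2.1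
  refine Subgroup.card_eq_one.1 (Forms.omega_center_card_one _ (nondegenerate (sqQ F) hW) (by simp)
    fun g hg hv => absurd (det_of_mem hW ⟨g, hg⟩) fun hd => h2 ?_)
  have hd' := congrArg (fun d : Fˣ => (d : F)) hd
  simp only [Matrix.GeneralLinearGroup.val_det_apply, hv, Units.val_one] at hd'
  rw [Matrix.det_neg, Matrix.det_one, mul_one, show Fintype.card (J 3 Unit) = 7 from rfl,
    Odd.neg_one_pow (by decide)] at hd'
  linear_combination (-1 : F) * hd'

theorem center_G : Subgroup.center G = ⊥ := by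
  let e : Cfsg.Omega K ⇑(qf 3 QW) ≃* G := Subgroup.equivMapOfInjective _ _ (Subgroup.subtype_injective _)
  refine (Subgroup.eq_bot_iff_forall _).2 fun g hg => ?_
  have h : e.symm g ∈ Subgroup.center (Cfsg.Omega K ⇑(qf 3 QW)) := Subgroup.mem_center_iff.2 fun y => by
    apply e.injective
    rw [map_mul, map_mul, e.apply_symm_apply, Subgroup.mem_center_iff.1 hg]
  rw [center_omega two_ne, Subgroup.mem_bot] at h
  rw [← e.apply_symm_apply g, h, map_one]

end Cfsg.Agent.O73Mult
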